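import Cfsg.Agent.H690.Spor.RankThree
import Cfsg.Agent.H625.SylConst

/-!
# Fixed vectors of `p`-groups in the constituents of a rank 3 permutation character (helper769)

`exists_chars` : the two nontrivial constituents of the permutation character of a rank 3 group with the values of
their characters; `fix_of` : a subgroup `P` has a fixed vector in the constituent of the eigenvalue `r` if
`n * m ≠ (k - s) * #P` for all integers `m`.
-/

set_option autoImplicit false
set_option linter.unusedSectionVars false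

namespace Cfsg.Agent.H769.IMC.R3Fix

open Cfsg Cfsg.Agent.Characters.Core Cfsg.Agent.H690.Spor.RankThree Cfsg.Agent.H625.SylConst
open scoped ComplexConjugate

variable {G X : Type*} [Group G] [MulAction G X] {R : X → X → Prop} {k l : ℕ}
variable [Fintype X] [DecidableEq X] [DecidableRel R]

open R3

/-- The constituents of a rank 3 permutation character, with their values. -/
theorem exists_chars [Finite G] (h : R3 G X R k l) {a b : ℕ} (hab : ∀ x y, ∑ z, adj R x z * adj R z y =
    (k - b : ℂ) * dia x y + (a - b : ℂ) * adj R x y + b) {r s : ℂ} (hrs : r ≠ s) (h1 : r + s = a - b)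
    (h2 : r * s = b - k) :
    ∃ χ₁ χ₂ : IrrCharacter G,
      (∀ g, (χ₁ : G → ℂ) g = ∑ x : X, ker R k (Nat.card X) r s x (g • x)) ∧
      (∀ g, (χ₂ : G → ℂ) g = ∑ x : X, ker R k (Nat.card X) s r x (g • x)) ∧
      (χ₁ : G → ℂ) 1 * (r - s) = -(s * (k + l) + k) ∧ (χ₂ : G → ℂ) 1 * (r - s) = r * (k + l) + k := by
  have := Fintype.ofFinite G
  have hp := h.params_eq hab
  have hn := h.cardn
  have hd0 : r - s ≠ 0 := sub_ne_zero.2 hrs
  have hchar : ∀ u v : ℂ, u ≠ v → u + v = a - b → u * v = b - k →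
      IsCharacter G (fun g : G => ∑ x : X, ker R k (Nat.card X) u v x (g • x)) := by
    intro u v huv h3 h4
    exact Cfsg.Agent.H651.isCharacter_sum_perm (MulAction.toPermHom G X) (ker R k (Nat.card X) u v)
      (h.ker_mul hab huv h3 h4) (fun g x y => h.ker_smul _ u v g x y)
  have hc1 := hchar r s hrs h1 h2
  have hc2 := hchar s r hrs.symm (by rw [add_comm]; exact h1) (by rw [mul_comm]; exact h2)
  set θ₁ : G → ℂ := fun g : G => ∑ x : X, ker R k (Nat.card X) r s x (g • x) with hθ₁
  set θ₂ : G → ℂ := fun g : G => ∑ x : X, ker R k (Nat.card X) s r x (g • x) with hθ₂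
  have hnC : (Nat.card X : ℂ) ≠ 0 := by
    have : Nat.card X ≠ 0 := by omega
    exact_mod_cast this
  have hval : ∀ u v : ℂ, ∀ g : G, ∑ x : X, ker R k (Nat.card X) u v x (g • x) =
      (u - v)⁻¹ * (∑ x : X, adj R x (g • x) - v * (Nat.card (MulAction.fixedBy X g) : ℂ) - (k - v)) := by
    intro u v g
    unfold ker
    rw [← Finset.mul_sum, Finset.sum_sub_distrib, Finset.sum_sub_distrib, ← Finset.mul_sum, sum_dia_smul,
      Finset.sum_const, Finset.card_univ, ← Nat.card_eq_fintype_card, nsmul_eq_mul]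
    congr 2
    field_simp
  have hsum : (fun g : G => (Nat.card (MulAction.fixedBy X g) : ℂ) - 1) = θ₁ + θ₂ := by
    funext g
    show _ = θ₁ g + θ₂ g
    rw [hθ₁, hθ₂]
    simp only [hval]
    have h3 : (s - r)⁻¹ = -(r - s)⁻¹ := by rw [← neg_sub, inv_neg]
    rw [h3]
    have h4 : (r - s)⁻¹ * (r - s) = 1 := inv_mul_cancel₀ hd0
    linear_combination (-(Nat.card (MulAction.fixedBy X g) : ℂ) + 1) * h4
  have hnorm := h.norm_two (G := G)
  rw [hsum, classInner_add_left, classInner_add_right, classInner_add_right] at hnorm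
  have hone : ∑ x : X, adj R x ((1 : G) • x) = 0 := by
    refine Finset.sum_eq_zero fun x _ => ?_
    unfold adj
    rw [one_smul, if_neg (h.irr x)]
  have hfix1 : Nat.card (MulAction.fixedBy X (1 : G)) = Nat.card X := by
    rw [MulAction.fixedBy_one_eq_univ]
    exact Nat.card_univ
  have hn' : (Nat.card X : ℂ) = 1 + k + l := by exact_mod_cast hn
  obtain ⟨d, hd⟩ : ∃ d : ℂ, d = r - s := ⟨_, rfl⟩
  have hd0' : d ≠ 0 := by rw [hd]; exact hd0
  have hdeg1 : θ₁ 1 * d = -(s * (k + l) + k) := by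
    rw [hθ₁]
    simp only [hval]
    rw [hone, hfix1, hn', ← hd]
    have h4 : d⁻¹ * d = 1 := inv_mul_cancel₀ hd0'
    linear_combination (0 - s * (1 + k + l) - (k - s)) * h4
  have hdeg2 : θ₂ 1 * d = r * (k + l) + k := by
    rw [hθ₂]
    simp only [hval]
    have h3 : (s - r)⁻¹ = -d⁻¹ := by rw [← neg_sub, inv_neg, ← hd]
    rw [hone, hfix1, hn', h3]
    have h4 : d⁻¹ * d = 1 := inv_mul_cancel₀ hd0'
    linear_combination (0 - (0 - r * (1 + k + l) - (k - r))) * h4
  have hpC : (k : ℂ) * k = k + k * a + l * b := by exact_mod_cast hp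
  have hk0 : (k : ℂ) ≠ 0 := by
    have := h.k0
    have h0 : k ≠ 0 := by omega
    exact_mod_cast h0
  have hl0 : (l : ℂ) ≠ 0 := by
    have := h.l0
    have h0 : l ≠ 0 := by omega
    exact_mod_cast h0
  have hprod : (θ₁ 1 * d) * (θ₂ 1 * d) = (1 + k + l) * k * l := by
    rw [hdeg1, hdeg2]
    linear_combination (-(k + l : ℂ) ^ 2) * h2 - (k : ℂ) * (k + l) * h1 + (k + l : ℂ) * hpC
  have hprod0 : ((1 : ℂ) + k + l) * k * l ≠ 0 := by
    rw [← hn']
    exact mul_ne_zero (mul_ne_zero hnC hk0) hl0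
  have hne1 : θ₁ 1 ≠ 0 := by
    intro h0
    rw [h0, zero_mul, zero_mul] at hprod
    exact hprod0 hprod.symm
  have hne2 : θ₂ 1 ≠ 0 := by
    intro h0
    rw [h0, zero_mul, mul_zero] at hprod
    exact hprod0 hprod.symm
  obtain ⟨m11, hm11⟩ := classInner_isNat hc1 hc1
  obtain ⟨m12, hm12⟩ := classInner_isNat hc1 hc2
  obtain ⟨m21, hm21⟩ := classInner_isNat hc2 hc1
  obtain ⟨m22, hm22⟩ := classInner_isNat hc2 hc2
  rw [hm11, hm12, hm21, hm22] at hnorm
  have hnormN : m11 + m12 + (m21 + m22) = 2 := by exact_mod_cast hnorm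
  have h11 : m11 ≠ 0 := by
    rintro rfl
    have h3 := classInner_self_eq_zero (φ := θ₁) (by rw [hm11]; simp)
    rw [h3] at hne1
    exact hne1 rfl
  have h22 : m22 ≠ 0 := by
    rintro rfl
    have h3 := classInner_self_eq_zero (φ := θ₂) (by rw [hm22]; simp)
    rw [h3] at hne2
    exact hne2 rfl
  have hm1 : m11 = 1 := by omega
  have hm2 : m22 = 1 := by omega
  have hi1 : IsIrrCharacter G θ₁ := isIrr_of_classInner_self hc1 (by rw [hm11, hm1]; simp)
  have hi2 : IsIrrCharacter G θ₂ := isIrr_of_classInner_self hc2 (by rw [hm22, hm2]; simp)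
  exact ⟨⟨θ₁, hi1⟩, ⟨θ₂, hi2⟩, fun g => rfl, fun g => rfl, by rw [← hd]; exact hdeg1, by rw [← hd]; exact hdeg2⟩

/-- A real symmetric invariant idempotent kernel gives a sum over `P` which is positive if one row sum is not zero. -/
theorem sum_pos_of_row {K : X → X → ℝ} (hid : ∀ x y, ∑ z, K x z * K z y = K x y) (hsymm : ∀ x y, K x y = K y x)
    (hinv : ∀ (g : G) x y, K (g • x) (g • y) = K x y) (P : Subgroup G) [Fintype P] (x : X)
    (hx : ∑ z : P, K x ((z : G) • x) ≠ 0) : ∑ z : P, ∑ y : X, K y ((z : G) • y) ≠ 0 := by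
  have hrow : ∀ y : X, 0 ≤ ∑ z : P, K y ((z : G) • y) := by
    intro y
    have h1 : ∑ w : X, (∑ z : P, K ((z : G) • y) w) ^ 2 = Fintype.card P * ∑ z : P, K y ((z : G) • y) := by
      have h2 : ∀ w : X, (∑ z : P, K ((z : G) • y) w) ^ 2 =
          ∑ u : P, ∑ v : P, K ((u : G) • y) w * K w ((v : G) • y) := by
        intro w
        rw [pow_two, Finset.sum_mul_sum]
        refine Finset.sum_congr rfl fun u _ => Finset.sum_congr rfl fun v _ => ?_
        rw [hsymm w]
      simp only [h2]
      rw [Finset.sum_comm]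
      have h3 : ∀ u : P, ∑ w : X, ∑ v : P, K ((u : G) • y) w * K w ((v : G) • y) =
          ∑ z : P, K y ((z : G) • y) := by
        intro u
        rw [Finset.sum_comm]
        have h4 : ∀ v : P, ∑ w : X, K ((u : G) • y) w * K w ((v : G) • y) = K y (((u⁻¹ * v : P) : G) • y) := by
          intro v
          rw [hid, ← hinv ((u : G)⁻¹), inv_smul_smul, smul_smul]
          rfl
        simp only [h4]
        exact Fintype.sum_equiv (Equiv.mulLeft u⁻¹) _ _ fun v => rfl
      rw [Finset.sum_congr rfl fun u _ => h3 u, Finset.sum_const, Finset.card_univ, nsmul_eq_mul]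
    have h5 : (0 : ℝ) < Fintype.card P := by exact_mod_cast Fintype.card_pos
    have h6 : (0 : ℝ) ≤ Fintype.card P * ∑ z : P, K y ((z : G) • y) := by
      rw [← h1]
      exact Finset.sum_nonneg fun w _ => sq_nonneg _
    exact nonneg_of_mul_nonneg_right h6 h5
  rw [Finset.sum_comm]
  exact (Finset.sum_pos' (fun y _ => hrow y) ⟨x, Finset.mem_univ _, lt_of_le_of_ne (hrow x) hx.symm⟩).ne'

/-- **Fixed vectors.** -/
theorem fix_of [Finite G] (h : R3 G X R k l) {a b : ℕ} (hab : ∀ x y, ∑ z, adj R x z * adj R z y =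
    (k - b : ℂ) * dia x y + (a - b : ℂ) * adj R x y + b) {r s : ℤ} (hrs : r ≠ s) (h1 : r + s = a - b)
    (h2 : r * s = b - k) {χ : IrrCharacter G}
    (hχ : ∀ g, (χ : G → ℂ) g = ∑ x : X, ker R k (Nat.card X) (r : ℂ) (s : ℂ) x (g • x)) (P : Subgroup G)
    (hP : ∀ m : ℤ, (Nat.card X : ℤ) * m ≠ (k - s) * Nat.card P) : Fix P (χ : G → ℂ) := by
  have := Fintype.ofFinite G
  have := Fintype.ofFinite P
  have hn := h.cardn
  have hn0 : Nat.card X ≠ 0 := by omega
  have hne : Nonempty X := by
    rw [← Finite.card_pos_iff]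
    omega
  obtain ⟨x0⟩ := hne
  rw [fix_iff]
  obtain ⟨K, hK⟩ : ∃ K : X → X → ℝ, ∀ x y, K x y =
      ((r : ℝ) - s)⁻¹ * ((if R x y then 1 else 0) - s * (if x = y then 1 else 0) - (k - s) * (Nat.card X : ℝ)⁻¹) :=
    ⟨_, fun x y => rfl⟩
  have hKC : ∀ x y, ((K x y : ℝ) : ℂ) = ker R k (Nat.card X) (r : ℂ) (s : ℂ) x y := by
    intro x y
    rw [hK]
    unfold ker adj dia
    by_cases h3 : R x y
    · by_cases h4 : x = y
      · rw [if_pos h3, if_pos h4, if_pos h3, if_pos h4]
        push_cast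
        ring
      · rw [if_pos h3, if_neg h4, if_pos h3, if_neg h4]
        push_cast
        ring
    · by_cases h4 : x = y
      · rw [if_neg h3, if_pos h4, if_neg h3, if_pos h4]
        push_cast
        ring
      · rw [if_neg h3, if_neg h4, if_neg h3, if_neg h4]
        push_cast
        ring
  have hrs' : (r : ℂ) ≠ s := by exact_mod_cast hrs
  have hid : ∀ x y, ∑ z, K x z * K z y = K x y := by
    intro x y
    have h3 := h.ker_mul hab hrs' (by exact_mod_cast h1) (by exact_mod_cast h2) x y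
    simp only [← hKC] at h3
    exact_mod_cast h3
  have hsymm : ∀ x y, K x y = K y x := by
    intro x y
    rw [hK, hK]
    have h3 : R x y ↔ R y x := ⟨h.symm x y, h.symm y x⟩
    have h4 : x = y ↔ y = x := eq_comm
    simp only [h3, h4]
  have hinv : ∀ (g : G) x y, K (g • x) (g • y) = K x y := by
    intro g x y
    have h3 := h.ker_smul (Nat.card X) (r : ℂ) (s : ℂ) g x y
    rw [← hKC, ← hKC] at h3
    exact_mod_cast h3
  have key : ∑ z : P, ∑ y : X, K y ((z : G) • y) ≠ 0 := by
    refine sum_pos_of_row hid hsymm hinv P x0 fun h3 => ?_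
    have hd0 : ((r : ℝ) - s) ≠ 0 := sub_ne_zero.2 (by exact_mod_cast hrs)
    simp only [hK] at h3
    rw [← Finset.mul_sum] at h3
    have h4 := (mul_eq_zero.1 h3).resolve_left (inv_ne_zero hd0)
    rw [Finset.sum_sub_distrib, Finset.sum_sub_distrib, ← Finset.mul_sum, Finset.sum_boole, Finset.sum_boole,
      Finset.sum_const, Finset.card_univ, nsmul_eq_mul] at h4
    have hnR : (Nat.card X : ℝ) ≠ 0 := by exact_mod_cast hn0
    have h5 : (Nat.card X : ℝ) * (((Finset.univ.filter fun z : P => R x0 ((z : G) • x0)).card : ℝ) -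
        s * ((Finset.univ.filter fun z : P => x0 = (z : G) • x0).card : ℝ)) = (k - s) * (Fintype.card P : ℝ) := by
      field_simp at h4
      linarith
    apply hP (((Finset.univ.filter fun z : P => R x0 ((z : G) • x0)).card : ℤ) -
        s * ((Finset.univ.filter fun z : P => x0 = (z : G) • x0).card : ℤ))
    rw [Nat.card_eq_fintype_card (α := P)]
    exact_mod_cast h5
  intro h3
  apply key
  simp only [hχ, ← hKC] at h3
  exact_mod_cast h3

end Cfsg.Agent.H769.IMC.R3Fix
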