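import Cfsg.Agent.H843.IMC.RowsA
import Cfsg.Agent.H94.IMCPerm
import Cfsg.Agent.H769.IMC.R3Fix

/-!
# The row `Co2` of S4526 (helper769, task 3143)

* `p = 2, 5` : the characters of degrees `2024`, `275` of the rank 3 action on the 2300 pairs (eigenvalues `-9`, `63`):
  every subgroup of order not divisible by `25` (resp. `23`) has a fixed vector (`R3Fix.fix_of`);
* `p = 3` : the constituent `2277` of the permutation character on the 4600 vectors;
* `p = 7, 11, 23` : the Itô-Michler row.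
-/

set_option autoImplicit false

namespace Cfsg.Agent.H769.IMC.RowCoTwo

open Cfsg Cfsg.Agent.H33 Cfsg.Agent.H672.SporIM Cfsg.Agent.H843.IMC Cfsg.Agent.H843.IMC.Co2B MulAction
  Cfsg.Agent.H625.SylConst Cfsg.Agent.H794.Imc Cfsg.Agent.H690.Spor.RankThree Cfsg.Agent.Characters.Core
open Cfsg.Agent.SporadicStructure.Co2RankThree
open Cfsg.Agent.H713.Spor.RankThree (pc inner_pc_one inner_pc_self pc_one inner_ne)

universe u

/-! ### the parameters of the rank 3 graph -/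

/-- The characters of the rank 3 action and the eigenvalues. -/
theorem exists_rs : ∃ (R' : Y → Y → Prop) (_ : DecidableRel R') (_ : Fintype Y) (_ : DecidableEq Y) (a b : ℕ),
    R3 Spor.Co2 Y R' 891 1408 ∧ (∀ x y : Y, ∑ z, R3.adj R' x z * R3.adj R' z y =
    (891 - b : ℂ) * R3.dia x y + (a - b : ℂ) * R3.adj R' x y + b) ∧ a = 378 ∧ b = 324 := by
  classical
  have := Fintype.ofFinite Y
  have hf : Finite Spor.Co2 := inferInstance
  obtain ⟨a, b, hab⟩ := r3.exists_params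
  refine ⟨R, inferInstance, inferInstance, inferInstance, a, b, r3, by exact_mod_cast hab, ?_⟩
  have hp := r3.params_eq hab
  -- the eigenvalues
  obtain ⟨d, hd⟩ : ∃ d : ℂ, d * d = (((a : ℤ) - b) ^ 2 + 4 * (891 - b) : ℤ) := by
    obtain ⟨d, hd⟩ := IsAlgClosed.exists_pow_nat_eq ((((a : ℤ) - b) ^ 2 + 4 * (891 - b) : ℤ) : ℂ) (n := 2)
      (by norm_num)
    exact ⟨d, by rw [← hd]; ring⟩
  have hb : b ≤ 626 := by omega
  have hd0 : d ≠ 0 := by
    rintro rfl
    have h1 : ((((a : ℤ) - b) ^ 2 + 4 * (891 - b) : ℤ) : ℂ) = 0 := by rw [← hd]; ring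
    have h2 : ((a : ℤ) - b) ^ 2 + 4 * (891 - b) = 0 := by exact_mod_cast h1
    nlinarith [sq_nonneg ((a : ℤ) - b)]
  push_cast at hd
  set r : ℂ := (((a : ℂ) - b) + d) / 2 with hr
  set s : ℂ := (((a : ℂ) - b) - d) / 2 with hs
  have hrs : r - s = d := by rw [hr, hs]; ring
  have h1 : r + s = a - b := by rw [hr, hs]; ring
  have h2 : r * s = b - (891 : ℕ) := by
    have h3 : r * s = (((a : ℂ) - b) ^ 2 - d * d) / 4 := by rw [hr, hs]; ring
    rw [h3, hd]
    push_cast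
    ring
  obtain ⟨χ₁, χ₂, -, -, h3, h4⟩ := R3Fix.exists_chars r3 hab (r := r) (s := s)
    (sub_ne_zero.1 (by rw [hrs]; exact hd0)) h1 h2
  obtain ⟨f, -, hf⟩ := isIrr_apply_one χ₁.2
  obtain ⟨g, -, hg⟩ := isIrr_apply_one χ₂.2
  rw [hf, hrs] at h3
  rw [hg, hrs] at h4
  push_cast at h3 h4
  have hfg : (f : ℂ) + g = 2299 := by
    apply mul_right_cancel₀ hd0
    linear_combination h3 + h4 + (2299 : ℂ) * hrs
  have hfgN : f + g = 2299 := by exact_mod_cast hfg
  have hsub : ((f : ℂ) - g) * d = -(((a : ℂ) - b) * 2299 + 1782) := by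
    linear_combination h3 - h4 - (2299 : ℂ) * h1
  have hsq : ((f : ℤ) - g) ^ 2 * (((a : ℤ) - b) ^ 2 + 4 * (891 - b)) = (((a : ℤ) - b) * 2299 + 1782) ^ 2 := by
    have h5 : ((f : ℂ) - g) ^ 2 * (((a : ℂ) - b) ^ 2 + 4 * (891 - b)) = (((a : ℂ) - b) * 2299 + 1782) ^ 2 := by
      have h6 : (((f : ℂ) - g) * d) ^ 2 = (((a : ℂ) - b) * 2299 + 1782) ^ 2 := by rw [hsub]; ring
      rw [← h6]
      linear_combination (-((f : ℂ) - g) ^ 2) * hd
    exact_mod_cast h5
  -- arithmetic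
  obtain ⟨j, hj⟩ : ∃ j, b = 81 * j := by
    have h5 : 81 ∣ 128 * b := by omega
    exact (Nat.Coprime.dvd_of_dvd_mul_left (by norm_num) h5)
  have hj6 : j ≤ 7 := by omega
  have hne : ((f : ℤ) - g) ≠ 0 := by omega
  have hdvd : ((f : ℤ) - g) ∣ (((a : ℤ) - b) * 2299 + 1782) := by
    have h9 : ((f : ℤ) - g) ^ 2 ∣ (((a : ℤ) - b) * 2299 + 1782) ^ 2 := ⟨_, hsq.symm⟩
    exact (Int.pow_dvd_pow_iff (by norm_num)).1 h9
  obtain ⟨c, hc⟩ := hdvd
  rw [hc, mul_pow] at hsq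
  have h10 : ((a : ℤ) - b) ^ 2 + 4 * (891 - b) = c ^ 2 := mul_left_cancel₀ (pow_ne_zero 2 hne) hsq
  have hc2 : c ^ 2 = (c.natAbs : ℤ) ^ 2 := (Int.natAbs_sq c).symm
  have nosq : ∀ (m v : ℕ) (N : ℤ), N = c ^ 2 → (m : ℤ) ^ 2 < N → N < ((m + 1 : ℕ) : ℤ) ^ 2 → False := by
    intro m v N hN h5 h6
    rw [hN, hc2] at h5 h6
    have h7 : m < c.natAbs := by
      have := abs_lt_of_sq_lt_sq h5 (by positivity)
      have h8 : (m : ℤ) < (c.natAbs : ℤ) := by
        have h9 := abs_of_nonneg (show (0 : ℤ) ≤ m by positivity)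
        omega
      exact_mod_cast h8
    have h8 : c.natAbs < m + 1 := by
      have := abs_lt_of_sq_lt_sq h6 (by positivity)
      have h8 : (c.natAbs : ℤ) < ((m + 1 : ℕ) : ℤ) := by
        have h9 := abs_of_nonneg (show (0 : ℤ) ≤ (c.natAbs : ℤ) by positivity)
        omega
      exact_mod_cast h8
    omega
  interval_cases j
  · -- b = 0
    exfalso
    have ha : a = 890 := by omega
    subst hj ha
    have h5 : c ^ 2 = 892 ^ 2 := by rw [← h10]; norm_num
    have h6 : c = 892 ∨ c = -892 := sq_eq_sq_iff_eq_or_eq_neg.1 h5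
    rcases h6 with rfl | rfl <;> push_cast at hc <;> omega
  · exfalso
    have ha : a = 762 := by omega
    subst hj ha
    exact nosq 683 0 467001 (by rw [← h10]; norm_num) (by norm_num) (by norm_num)
  · exfalso
    have ha : a = 634 := by omega
    subst hj ha
    exact nosq 475 0 225700 (by rw [← h10]; norm_num) (by norm_num) (by norm_num)
  · exfalso
    have ha : a = 506 := by omega
    subst hj ha
    exact nosq 267 0 71761 (by rw [← h10]; norm_num) (by norm_num) (by norm_num)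
  · exact ⟨by omega, by omega⟩
  · exfalso
    have ha : a = 250 := by omega
    subst hj ha
    exact nosq 161 0 25969 (by rw [← h10]; norm_num) (by norm_num) (by norm_num)
  · exfalso
    have ha : a = 122 := by omega
    subst hj ha
    exact nosq 366 0 134116 (by rw [← h10]; norm_num) (by norm_num) (by norm_num)
  · exfalso
    omega

/-- The characters of degrees 2024 and 275 and their fixed vectors. -/
theorem exists_fix : ∃ χ₁ χ₂ : IrrCharacter Spor.Co2, charDegree (χ₁ : Spor.Co2 → ℂ) = 2024 ∧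
    charDegree (χ₂ : Spor.Co2 → ℂ) = 275 ∧
    (∀ P : Subgroup Spor.Co2, ¬ 25 ∣ Nat.card P → Fix P (χ₁ : Spor.Co2 → ℂ)) ∧
    (∀ P : Subgroup Spor.Co2, ¬ 23 ∣ Nat.card P → Fix P (χ₂ : Spor.Co2 → ℂ)) := by
  obtain ⟨R', i1, i2, i3, a, b, h, hab, rfl, rfl⟩ := exists_rs
  have hab' : ∀ x y : Y, ∑ z, R3.adj R' x z * R3.adj R' z y =
      ((891 : ℕ) - (324 : ℕ) : ℂ) * R3.dia x y + ((378 : ℕ) - (324 : ℕ) : ℂ) * R3.adj R' x y + (324 : ℕ) := by
    intro x y
    rw [hab x y]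
    push_cast
    ring
  have hf : Finite Spor.Co2 := inferInstance
  obtain ⟨χ₁, χ₂, h1, h2, h3, h4⟩ := R3Fix.exists_chars h hab' (r := ((-9 : ℤ) : ℂ)) (s := ((63 : ℤ) : ℂ))
    (by norm_num) (by norm_num) (by norm_num)
  have hn : Nat.card Y = 2300 := card_Y
  refine ⟨χ₁, χ₂, ?_, ?_, fun P hP => ?_, fun P hP => ?_⟩
  · refine Cfsg.Agent.Blocks.Basic.charDegree_of_eq ?_
    push_cast at h3 ⊢
    linear_combination (-1 / 72 : ℂ) * h3
  · refine Cfsg.Agent.Blocks.Basic.charDegree_of_eq ?_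
    push_cast at h4 ⊢
    linear_combination (-1 / 72 : ℂ) * h4
  · refine R3Fix.fix_of h hab' (r := -9) (s := 63) (by norm_num) (by norm_num) (by norm_num) h1 P fun m hm => ?_
    rw [hn] at hm
    apply hP
    push_cast at hm
    omega
  · refine R3Fix.fix_of h hab' (r := 63) (s := -9) (by norm_num) (by norm_num) (by norm_num) h2 P fun m hm => ?_
    rw [hn] at hm
    apply hP
    push_cast at hm
    omega

theorem imc_of_fix {p : ℕ} [hp : Fact p.Prime] {G : Type*} [Group G] [Finite G] (χ : IrrCharacter G)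
    (hd : p ∣ charDegree (χ : G → ℂ)) {q : ℕ} (hq : ¬ q ∣ p ^ (Nat.card G).factorization p)
    (h : ∀ P : Subgroup G, ¬ q ∣ Nat.card P → Fix P (χ : G → ℂ)) : IMC p G := by
  obtain ⟨P⟩ : Nonempty (Sylow p G) := inferInstance
  exact ⟨χ, P, hd, h _ (by rw [P.card_eq_multiplicity]; exact hq)⟩

theorem imc2 : IMC 2 Spor.Co2 := by
  have hp : Fact (Nat.Prime 2) := ⟨Nat.prime_two⟩
  obtain ⟨χ₁, χ₂, h1, -, h3, -⟩ := exists_fix
  refine imc_of_fix χ₁ (by rw [h1]; norm_num) (q := 25) (fun h => ?_) h3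
  have h4 : Nat.Coprime 25 (2 ^ (Nat.card Spor.Co2).factorization 2) := Nat.Coprime.pow_right _ (by norm_num)
  have := Nat.Coprime.eq_one_of_dvd h4 h
  omega

theorem imc5 : IMC 5 Spor.Co2 := by
  have hp : Fact (Nat.Prime 5) := ⟨Nat.prime_five⟩
  obtain ⟨χ₁, χ₂, -, h2, -, h4⟩ := exists_fix
  refine imc_of_fix χ₂ (by rw [h2]; norm_num) (q := 23) (fun h => ?_) h4
  have h4 : Nat.Coprime 23 (5 ^ (Nat.card Spor.Co2).factorization 5) := Nat.Coprime.pow_right _ (by norm_num)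
  have := Nat.Coprime.eq_one_of_dvd h4 h
  omega

/-! ### `p = 3` -/

theorem exists_2277 [Fintype Spor.Co2] : ∃ χ : IrrCharacter Spor.Co2, charDegree (χ : Spor.Co2 → ℂ) = 2277 ∧
    classInner (pc Spor.Co2 X) (χ : Spor.Co2 → ℂ) ≠ 0 := by
  classical
  have := Fintype.ofFinite Y
  have hne : Nonempty X := ⟨⟨y1, y1_mem_A⟩⟩
  have hne' : Nonempty Y := ⟨mk ⟨y1, y1_mem_A⟩⟩
  obtain ⟨χ₁, χ₂, h1, h2, h3⟩ := Co2A.of_R3 Co2A.card_co2 r3
  obtain ⟨μ, hμ⟩ := Co2A.exists_mu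
  have hμ23 : charDegree (μ : Spor.Co2 → ℂ) = 23 := by
    obtain ⟨μ', h'⟩ := Co2A.hasDeg_23
    have h4 := hμ 1
    have h6 : Cfsg.Agent.H419.LeechIrr.lchi Cfsg.Agent.H419.Spor.Co2.inc 1 = 24 := by
      rw [Cfsg.Agent.H419.LeechIrr.lchi, map_one, Cfsg.Agent.SigZeroCo2.Lin.tr8_one]
      norm_num
    rw [h6, Cfsg.Agent.Blocks.Basic.irr_one_eq_charDegree μ.2] at h4
    have : (24 : ℂ) = ((1 + charDegree (μ : Spor.Co2 → ℂ) : ℕ) : ℂ) := by rw [h4]; push_cast; ring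
    have h9 : 24 = 1 + charDegree (μ : Spor.Co2 → ℂ) := by exact_mod_cast this
    omega
  have ne_of_deg : ∀ {α β : IrrCharacter Spor.Co2}, charDegree (α : Spor.Co2 → ℂ) ≠ charDegree (β : Spor.Co2 → ℂ) →
      (α : Spor.Co2 → ℂ) ≠ β := by
    intro α β h hcon
    exact h (by rw [hcon])
  have hone : charDegree (1 : Spor.Co2 → ℂ) = 1 := by
    unfold charDegree
    simp
  have hμ1 : (μ : Spor.Co2 → ℂ) ≠ 1 := by
    intro h
    rw [h, hone] at hμ23
    omega
  have hχ1 : (χ₁ : Spor.Co2 → ℂ) ≠ 1 := by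
    intro h
    rw [h, hone] at h1
    omega
  have hχ2 : (χ₂ : Spor.Co2 → ℂ) ≠ 1 := by
    intro h
    rw [h, hone] at h2
    omega
  have h12 : (χ₁ : Spor.Co2 → ℂ) ≠ χ₂ := ne_of_deg (by rw [h1, h2]; norm_num)
  have h1μ : (χ₁ : Spor.Co2 → ℂ) ≠ μ := ne_of_deg (by rw [h1, hμ23]; norm_num)
  have h2μ : (χ₂ : Spor.Co2 → ℂ) ≠ μ := ne_of_deg (by rw [h2, hμ23]; norm_num)
  -- the permutation character of the pairs
  have hY : pc Spor.Co2 Y = 1 + (χ₁ : Spor.Co2 → ℂ) + (χ₂ : Spor.Co2 → ℂ) := by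
    funext g
    exact h3 g
  have hYY : classInner (pc Spor.Co2 Y) (pc Spor.Co2 Y) = 3 := by
    rw [hY]
    simp only [classInner_add_left, classInner_add_right]
    rw [classInner_irr_self isIrr_one, classInner_irr_self χ₁.2, classInner_irr_self χ₂.2,
      classInner_irr_ne isIrr_one χ₁.2 hχ1.symm, classInner_irr_ne isIrr_one χ₂.2 hχ2.symm,
      classInner_irr_ne χ₁.2 isIrr_one hχ1, classInner_irr_ne χ₂.2 isIrr_one hχ2,
      classInner_irr_ne χ₁.2 χ₂.2 h12, classInner_irr_ne χ₂.2 χ₁.2 h12.symm]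
    norm_num
  have hYμ : classInner (pc Spor.Co2 Y) (μ : Spor.Co2 → ℂ) = 0 := by
    rw [hY]
    simp only [classInner_add_left]
    rw [classInner_irr_ne isIrr_one μ.2 hμ1.symm, classInner_irr_ne χ₁.2 μ.2 h1μ, classInner_irr_ne χ₂.2 μ.2 h2μ]
    norm_num
  have hμY : classInner (μ : Spor.Co2 → ℂ) (pc Spor.Co2 Y) = 0 := by
    rw [← classInner_conj_symm, hYμ, map_zero]
  -- the numbers of orbits
  obtain ⟨N1, hN1⟩ : ∃ n : ℕ, n = Nat.card (Quotient (orbitRel Spor.Co2 (X × X))) := ⟨_, rfl⟩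
  obtain ⟨N2, hN2⟩ : ∃ n : ℕ, n = Nat.card (Quotient (orbitRel Spor.Co2 (X × Y))) := ⟨_, rfl⟩
  have hN1' : N1 ≤ 5 := by rw [hN1]; exact rank_le
  have hN3 : Nat.card (Quotient (orbitRel Spor.Co2 (Y × Y))) = 3 := by
    have h4 := inner_pc_self (G := Spor.Co2) Y
    rw [hYY] at h4
    exact_mod_cast h4.symm
  have hN2' : 3 ≤ N2 := by rw [hN2, ← hN3]; exact rank_mono
  have hXX : classInner (pc Spor.Co2 X) (pc Spor.Co2 X) = N1 := by rw [hN1]; exact inner_pc_self X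
  have hXY : classInner (pc Spor.Co2 X) (pc Spor.Co2 Y) = N2 := by rw [hN2]; exact inner_pc_pc X Y
  have hYX : classInner (pc Spor.Co2 Y) (pc Spor.Co2 X) = N2 := by
    rw [← classInner_conj_symm, hXY, Complex.conj_natCast]
  -- the character of degree 23
  have hXμ : classInner (pc Spor.Co2 X) (μ : Spor.Co2 → ℂ) ≠ 0 := by
    refine inner_ne Cfsg.Agent.H419.Spor.Co2.inc μ hμ1 (d := 1) (fun g => by rw [hμ g]; norm_num) X
      (fun x => Cfsg.Agent.H419.Spor.Co2.c • x.1) ?_ ?_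
    · intro γ x
      show Cfsg.Agent.H419.Spor.Co2.c • (toCo0 γ • x.1) =
        (Cfsg.Agent.H419.Spor.Co2.c * toCo0 γ * Cfsg.Agent.H419.Spor.Co2.c⁻¹) • Cfsg.Agent.H419.Spor.Co2.c • x.1
      rw [mul_smul, mul_smul, inv_smul_smul]
    · intro x
      obtain ⟨γ, hγ⟩ := exists_smul x (op x)
      refine ⟨γ, fun hcon => op_ne x ?_⟩
      rw [← hγ]
      apply Subtype.ext
      have h4 : Cfsg.Agent.H419.Spor.Co2.inc γ • Cfsg.Agent.H419.Spor.Co2.c • x.1 =
          Cfsg.Agent.H419.Spor.Co2.c • (toCo0 γ • x.1) := by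
        show (Cfsg.Agent.H419.Spor.Co2.c * toCo0 γ * Cfsg.Agent.H419.Spor.Co2.c⁻¹) • Cfsg.Agent.H419.Spor.Co2.c • x.1 = _
        rw [mul_smul, mul_smul, inv_smul_smul]
      rw [h4] at hcon
      exact MulAction.injective Cfsg.Agent.H419.Spor.Co2.c hcon
  obtain ⟨m, hm⟩ := classInner_isNat (Cfsg.Agent.S0157.isCharacter_fixedBy (G := Spor.Co2) X) (isIrr_isCharacter μ.2)
  change classInner (pc Spor.Co2 X) μ = m at hm
  have hm0 : m ≠ 0 := by
    rintro rfl
    exact hXμ (by rw [hm]; norm_num)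
  have hm' : classInner (μ : Spor.Co2 → ℂ) (pc Spor.Co2 X) = m := by
    rw [← classInner_conj_symm, hm, Complex.conj_natCast]
  -- the difference
  set ψ : Spor.Co2 → ℂ := pc Spor.Co2 X - (pc Spor.Co2 Y + (μ : Spor.Co2 → ℂ)) with hψ
  have hgen : IsGeneralizedCharacter Spor.Co2 ψ := by
    rw [isGeneralizedCharacter_def]
    exact ⟨_, _, Cfsg.Agent.S0157.isCharacter_fixedBy X,
      isCharacter_add (Cfsg.Agent.S0157.isCharacter_fixedBy Y) (isIrr_isCharacter μ.2), rfl⟩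
  have hval : ψ 1 = 2277 := by
    rw [hψ, Pi.sub_apply, Pi.add_apply, pc_one, pc_one, card_X, card_Y,
      Cfsg.Agent.Blocks.Basic.irr_one_eq_charDegree μ.2, hμ23]
    norm_num
  have hnorm : classInner ψ ψ = (((N1 : ℤ) - 2 * N2 + 4 - 2 * m : ℤ) : ℂ) := by
    rw [hψ]
    simp only [classInner_sub_left, classInner_sub_right, classInner_add_left, classInner_add_right]
    rw [hXX, hXY, hYX, hYY, hm, hm', hYμ, hμY, classInner_irr_self μ.2]
    push_cast
    ring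
  have hpos : ψ ≠ 0 := by
    intro h
    rw [h, Pi.zero_apply] at hval
    norm_num at hval
  have hnonneg : 0 < (N1 : ℤ) - 2 * N2 + 4 - 2 * m := by
    have h4 := classInner_self_eq_ofReal ψ
    rw [hnorm] at h4
    have h5 : (((N1 : ℤ) - 2 * N2 + 4 - 2 * m : ℤ) : ℝ) =
        (Nat.card Spor.Co2 : ℝ)⁻¹ * ∑ g : Spor.Co2, Complex.normSq (ψ g) := by exact_mod_cast h4
    have h6 : (0 : ℝ) ≤ (((N1 : ℤ) - 2 * N2 + 4 - 2 * m : ℤ) : ℝ) := by
      rw [h5]
      exact mul_nonneg (by positivity) (Finset.sum_nonneg fun _ _ => Complex.normSq_nonneg _)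
    have h7 : (0 : ℤ) ≤ (N1 : ℤ) - 2 * N2 + 4 - 2 * m := by exact_mod_cast h6
    refine lt_of_le_of_ne h7 fun h8 => hpos ?_
    apply classInner_self_eq_zero
    rw [hnorm, ← h8]
    norm_num
  have hone' : (N1 : ℤ) - 2 * N2 + 4 - 2 * m = 1 := by omega
  rw [hone'] at hnorm
  rcases isIrr_of_generalized hgen (by rw [hnorm]; norm_num) with h | h
  · refine ⟨⟨ψ, h⟩, ?_, ?_⟩
    · exact Cfsg.Agent.H670.PSing.charDegree_eq_of (by show ψ 1 = _; rw [hval]; norm_num)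
    · have h4 : classInner (pc Spor.Co2 X) ψ = ((N1 - (N2 + m) : ℤ) : ℂ) := by
        rw [hψ]
        simp only [classInner_sub_right, classInner_add_right]
        rw [hXX, hXY, hm]
        push_cast
        ring
      show classInner (pc Spor.Co2 X) ψ ≠ 0
      rw [h4]
      have h5 : (N1 - (N2 + m) : ℤ) ≠ 0 := by omega
      exact_mod_cast h5
  · exfalso
    obtain ⟨n, hn, hn'⟩ := isIrr_apply_one h
    rw [Pi.neg_apply, hval] at hn'
    have h4 : ((n : ℤ) : ℂ) + ((2277 : ℤ) : ℂ) = 0 := by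
      push_cast
      rw [← hn']
      ring
    have h5 : (n : ℤ) + 2277 = 0 := by exact_mod_cast h4
    omega

theorem imc3 : IMC 3 Spor.Co2 := by
  have hp : Fact (Nat.Prime 3) := ⟨Nat.prime_three⟩
  have := Fintype.ofFinite Spor.Co2
  obtain ⟨χ, h1, h2⟩ := exists_2277
  exact Cfsg.Agent.H94.IMCPerm.imc_of_perm (X := X) (by rw [card_X]; norm_num) χ (by rw [h1]; norm_num) h2

/-- **S4526 for `Co2`.** -/
theorem imc_co2 {S : Type u} [Group S] [Finite S] (h : Cfsg.Spor.IsoCo2 S) {p : ℕ} [hp : Fact p.Prime]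
    (hd : p ∣ Nat.card S) : IMC p S := by
  have him := Rows.im_co2 h hd
  obtain ⟨e⟩ := h
  have hcard : Nat.card S = 42305421312000 := by rw [Nat.card_congr e.toEquiv, Co2A.card_co2]
  by_cases hp2 : p = 2
  · subst hp2
    exact IMC.of_equiv e imc2
  by_cases hp3 : p = 3
  · subst hp3
    exact IMC.of_equiv e imc3
  by_cases hp5 : p = 5
  · subst hp5
    exact IMC.of_equiv e imc5
  refine imc_of_exact hd (fun h2 => ?_) him
  rw [hcard] at h2
  have hpr := hp.out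
  have h5 : p * p ∣ (2 ^ 18 * 3 ^ 6 * 5 ^ 3) * (7 * 11 * 23) := by
    rw [← pow_two]
    norm_num
    exact h2
  have hc : Nat.Coprime (p * p) (2 ^ 18 * 3 ^ 6 * 5 ^ 3) := by
    have h6 : Nat.Coprime p (2 ^ 18 * 3 ^ 6 * 5 ^ 3) := by
      refine Nat.Coprime.mul_right (Nat.Coprime.mul_right ?_ ?_) ?_
      · exact Nat.Coprime.pow_right _ ((Nat.coprime_primes hpr Nat.prime_two).2 hp2)
      · exact Nat.Coprime.pow_right _ ((Nat.coprime_primes hpr Nat.prime_three).2 hp3)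
      · exact Nat.Coprime.pow_right _ ((Nat.coprime_primes hpr Nat.prime_five).2 hp5)
    exact h6.mul_left h6
  have h7 : p * p ∣ 7 * 11 * 23 := hc.dvd_of_dvd_mul_left h5
  have h8 : Squarefree (7 * 11 * 23) := by
    rw [Nat.squarefree_iff_minSqFac]
    norm_num
    decide +kernel
  exact hpr.one_lt.ne' (Nat.isUnit_iff.1 (h8 p h7))

end Cfsg.Agent.H769.IMC.RowCoTwo
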