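import Cfsg.Agent.H843.IMC.RowsB
import Cfsg.Agent.H94.IMCPerm
import Cfsg.Agent.H94.IMCLoc
import Cfsg.Agent.H287.Blk.CoThree

/-!
# The row `Co3` of S4526 (helper769, task 3143)

`p = 2` : the row `loc_Co3` of S5009; `p = 3` : an element of order 3 with centralizer `3 × L2(8):3` (helper843);
`p = 5` : the 2-transitive action on 276 points; `p = 7, 11, 23` : the Itô-Michler row.
-/

set_option autoImplicit false

namespace Cfsg.Agent.H769.IMC.RowCoThree

open Cfsg Cfsg.Agent.H33 Cfsg.Agent.H672.SporIM Cfsg.Agent.H843.IMC Cfsg.Agent.H843.IMC.Co3B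
  Cfsg.Agent.H625.SylConst Cfsg.Agent.H794.Imc

universe u

theorem imc3_Gw : IMC 3 Gw := by
  have hp : Fact (Nat.Prime 3) := ⟨Nat.prime_three⟩
  obtain ⟨θ, hθ⟩ := hasDeg_27
  have hcard : Nat.card ↥(Subgroup.zpowers x) = 3 := by rw [Nat.card_zpowers, orderOf_x]
  have hle : Subgroup.zpowers x ≤ KK := by
    rw [KK_eq, Subgroup.zpowers_le, Subgroup.mem_centralizer_singleton_iff]
  refine imc_of_local (Subgroup.zpowers x) (IsPGroup.of_card (n := 1) (by rw [hcard, pow_one])) ?_ θ ?_ ?_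
  · have h1 := Subgroup.card_mul_index (Subgroup.zpowers x)
    rw [hcard, card_Gw] at h1
    omega
  · have h1 : (Nat.card ↥KK).factorization 3 ≤ 4 := by
      by_contra hcon
      exact not_dvd_KK ((Nat.prime_three.pow_dvd_iff_le_factorization Nat.card_pos.ne').2 (by omega))
    have h2 : (charDegree (θ : ↥KK → ℂ)).factorization 3 = 3 := by
      rw [hθ, show (27 : ℕ) = 3 ^ 3 by norm_num, Nat.prime_three.factorization_pow]
      simp
    have h3 : Subgroup.zpowers x ⊓ KK = Subgroup.zpowers x := inf_eq_left.2 hle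
    rw [h3, hcard, Nat.prime_three.factorization_self, h2]
    exact h1
  · rintro g hg ⟨k, hk⟩
    refine (le_sup_right : KK ≤ _) ?_
    rw [KK_eq, Subgroup.mem_centralizer_singleton_iff]
    have h1 : g * x * g⁻¹ ∈ Subgroup.zpowers x :=
      (Subgroup.mem_normalizer_iff.1 hg x).1 (Subgroup.mem_zpowers x)
    have hx3 : x ^ 3 = 1 := by rw [← orderOf_x, pow_orderOf_eq_one]
    have h2 : g * x * g⁻¹ = x ∨ g * x * g⁻¹ = x⁻¹ := by
      classical
      rw [mem_zpowers_iff_mem_range_orderOf, orderOf_x] at h1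
      obtain ⟨n, hn, h1⟩ := Finset.mem_image.1 h1
      rw [Finset.mem_range] at hn
      interval_cases n
      · exfalso
        have h3 : x = 1 := by
          have h4 : g * x * g⁻¹ = 1 := by rw [← h1, pow_zero]
          have h5 : x = g⁻¹ * (g * x * g⁻¹) * g := by group
          rw [h5, h4]
          group
        have h4 := orderOf_x
        rw [h3, orderOf_one] at h4
        norm_num at h4
      · left
        rw [← h1, pow_one]
      · right
        rw [← h1, eq_inv_iff_mul_eq_one, ← pow_succ, hx3]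
    rcases h2 with h2 | h2
    · calc g * x = g * x * g⁻¹ * g := by group
        _ = x * g := by rw [h2]
    · have h3 : g ^ 2 * x = x * g ^ 2 := by
        have h4 : g * x⁻¹ * g⁻¹ = x := by
          calc g * x⁻¹ * g⁻¹ = (g * x * g⁻¹)⁻¹ := by group
            _ = x := by rw [h2, inv_inv]
        have h5 : g ^ 2 * x * (g ^ 2)⁻¹ = x := by
          calc g ^ 2 * x * (g ^ 2)⁻¹ = g * (g * x * g⁻¹) * g⁻¹ := by rw [pow_two]; group
            _ = x := by rw [h2, h4]
        calc g ^ 2 * x = g ^ 2 * x * (g ^ 2)⁻¹ * g ^ 2 := by group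
          _ = x * g ^ 2 := by rw [h5]
      have hodd : Odd (3 ^ k) := Odd.pow (by decide)
      obtain ⟨m, hm⟩ := hodd
      have h4 : g = (g ^ 2) ^ (m + 1) := by
        rw [← pow_mul, show 2 * (m + 1) = (2 * m + 1) + 1 by ring, ← hm, pow_succ, ← hk, pow_orderOf_eq_one, one_mul]
      have h5 : Commute ((g ^ 2) ^ (m + 1)) x := Commute.pow_left h3 _
      rw [← h4] at h5
      exact h5

theorem imc3 : IMC 3 Spor.Co3 := by
  have hp : Fact (Nat.Prime 3) := ⟨Nat.prime_three⟩
  obtain ⟨f⟩ := nonempty_equiv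
  exact IMC.of_equiv f imc3_Gw

theorem imc5 : IMC 5 Spor.Co3 := by
  have hp : Fact (Nat.Prime 5) := ⟨Nat.prime_five⟩
  exact Cfsg.Agent.H94.IMCPerm.imc_of_two (X := Co3A.Y) Co3A.two_trans (by rw [Co3A.card_Y]; norm_num)
    (by rw [Co3A.card_Y]; norm_num)

/-- **S4526 for `Co3`.** -/
theorem imc_co3 {S : Type u} [Group S] [Finite S] (h : Cfsg.Spor.IsoCo3 S) {p : ℕ} [hp : Fact p.Prime]
    (hd : p ∣ Nat.card S) : IMC p S := by
  have him := Rows.im_co3 h hd
  have hloc := Cfsg.Agent.H287.Blk.loc_Co3 h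
  obtain ⟨e⟩ := h
  have hcard : Nat.card S = 495766656000 := by rw [Nat.card_congr e.toEquiv, Co3A.card_co3]
  by_cases hp2 : p = 2
  · subst hp2
    exact Cfsg.Agent.H94.IMCLoc.imc_two_of_loc hloc
  by_cases hp3 : p = 3
  · subst hp3
    exact IMC.of_equiv e imc3
  by_cases hp5 : p = 5
  · subst hp5
    exact IMC.of_equiv e imc5
  refine imc_of_exact hd (fun h2 => ?_) him
  rw [hcard] at h2
  have hpr := hp.out
  have h5 : p * p ∣ (2 ^ 10 * 3 ^ 7 * 5 ^ 3) * (7 * 11 * 23) := by
    rw [← pow_two]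
    norm_num
    exact h2
  have hc : Nat.Coprime (p * p) (2 ^ 10 * 3 ^ 7 * 5 ^ 3) := by
    have h6 : Nat.Coprime p (2 ^ 10 * 3 ^ 7 * 5 ^ 3) := by
      refine Nat.Coprime.mul_right (Nat.Coprime.mul_right ?_ ?_) ?_
      · exact Nat.Coprime.pow_right _ ((Nat.coprime_primes hpr Nat.prime_two).2 hp2)
      · exact Nat.Coprime.pow_right _ ((Nat.coprime_primes hpr Nat.prime_three).2 hp3)
      · exact Nat.Coprime.pow_right _ ((Nat.coprime_primes hpr Nat.prime_five).2 hp5)
    exact h6.mul_left h6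
  have h7 : p * p ∣ 7 * 11 * 23 := hc.dvd_of_dvd_mul_left h5
  have h8 : Squarefree (7 * 11 * 23) := by
    rw [Nat.squarefree_iff_minSqFac]
    norm_num
    decide +kernel
  exact hpr.one_lt.ne' (Nat.isUnit_iff.1 (h8 p h7))

end Cfsg.Agent.H769.IMC.RowCoThree
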